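import Mathlib

/-!
# Regular points on abelian p-groups of rank two

A group of automorphisms of order prime to `p` of an abelian `p`-group generated by two elements,
of order at least `p ^ 3`, has a point with trivial stabiliser.
-/

set_option autoImplicit false
set_option linter.unusedSectionVars false

namespace Cfsg.Lib.Blocks.RankTwo

variable {P : Type*} [CommGroup P] [Finite P] {p : ℕ} [hp : Fact p.Prime]

/-- An automorphism of order prime to `p` fixing the elements of exponent `p` is trivial. -/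
theorem eq_one_of_fix_omega (hP : IsPGroup p P) (α : MulAut P) {n : ℕ} (hn : α ^ n = 1)
    (hpn : ¬ p ∣ n) (h : ∀ y : P, y ^ p = 1 → α y = y) : α = 1 := by
  suffices key : ∀ j (y : P), y ^ p ^ j = 1 → α y = y by
    refine MulEquiv.ext fun y => ?_
    obtain ⟨j, hj⟩ := IsPGroup.iff_orderOf.1 hP y
    exact key j y (by rw [← hj, pow_orderOf_eq_one])
  intro j
  induction j with
  | zero => intro y hy; rw [pow_zero, pow_one] at hy; rw [hy, map_one]
  | succ j ih =>
    intro y hy
    have h1 : α (y ^ p) = y ^ p := ih _ (by rw [← pow_mul, ← pow_succ']; exact hy)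
    set d := y⁻¹ * α y with hd
    have hdp : d ^ p = 1 := by rw [hd, mul_pow, inv_pow, ← map_pow, h1, inv_mul_cancel]
    have hαy : α y = y * d := by rw [hd, mul_inv_cancel_left]
    have hpow : ∀ i : ℕ, (α ^ i) y = y * d ^ i := fun i => by
      induction i with
      | zero => simp
      | succ i ihi =>
        rw [pow_succ', MulAut.mul_apply, ihi, map_mul, hαy, map_pow, h d hdp, pow_succ', mul_assoc]
    have hdn : d ^ n = 1 := by
      have := hpow n
      rw [hn, MulAut.one_apply] at this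
      exact left_eq_mul.1 this
    have h2 : orderOf d = 1 := Nat.eq_one_of_dvd_coprimes
      (hp.out.coprime_iff_not_dvd.2 hpn) (orderOf_dvd_of_pow_eq_one hdp) (orderOf_dvd_of_pow_eq_one hdn)
    rw [hαy, orderOf_eq_one_iff.1 h2, mul_one]

/-- **A regular point.** -/
theorem exists_regular_point (hP : IsPGroup p P) {x z : P}
    (hgen : ∀ y : P, ∃ i j : ℕ, y = x ^ i * z ^ j) (hbig : p ^ 3 ≤ Nat.card P)
    (A : Subgroup (MulAut P)) (hA : ¬ p ∣ Nat.card A) :
    ∃ u : P, ∀ α ∈ A, α u = u → α = 1 := by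
  classical
  haveI : Fintype P := Fintype.ofFinite P
  haveI : Finite (MulAut P) := Finite.of_injective (fun f : MulAut P => (f : P → P))
    fun f g h => MulEquiv.ext fun y => congrFun h y
  obtain ⟨m, hm, hxm⟩ : ∃ m, 2 ≤ m ∧ ∃ w : P, orderOf w = p ^ m := by
    by_contra hno
    push Not at hno
    have hexp : ∀ w : P, w ^ p = 1 := fun w => by
      obtain ⟨j, hj⟩ := IsPGroup.iff_orderOf.1 hP w
      have : j < 2 := by
        by_contra h
        exact hno j (by omega) w hj
      rw [← orderOf_dvd_iff_pow_eq_one, hj]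
      interval_cases j <;> simp
    have hsurj : Function.Surjective fun a : Fin p × Fin p => x ^ (a.1 : ℕ) * z ^ (a.2 : ℕ) := fun y => by
      obtain ⟨i, j, rfl⟩ := hgen y
      exact ⟨(⟨i % p, Nat.mod_lt _ hp.out.pos⟩, ⟨j % p, Nat.mod_lt _ hp.out.pos⟩), by
        simp only; rw [← pow_eq_pow_mod _ (hexp x), ← pow_eq_pow_mod _ (hexp z)]⟩
    have := Nat.card_le_card_of_surjective _ hsurj
    rw [Nat.card_prod, Nat.card_eq_fintype_card (α := Fin p), Fintype.card_fin] at this
    have h2 := hp.out.two_le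
    have h3 : p ^ 3 = p * (p * p) := by ring
    have h4 : 2 * (p * p) ≤ p * (p * p) := Nat.mul_le_mul_right _ h2
    have h5 : 0 < p * p := Nat.mul_pos hp.out.pos hp.out.pos
    omega
  obtain ⟨w, hw⟩ := hxm
  -- the stabiliser of the power
  let A₀ : Subgroup (MulAut P) :=
    { carrier := {α | α ∈ A ∧ α (w ^ p) = w ^ p}
      one_mem' := ⟨A.one_mem, rfl⟩
      mul_mem' := fun ha hb => ⟨A.mul_mem ha.1 hb.1, by rw [MulAut.mul_apply, hb.2, ha.2]⟩
      inv_mem' := fun {α} ha => ⟨A.inv_mem ha.1, by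
        conv_lhs => rw [← ha.2]
        rw [MulAut.inv_apply_self]⟩ }
  haveI : Fintype A₀ := Fintype.ofFinite _
  have hn : (Fintype.card A₀).Coprime (Nat.card P) := by
    obtain ⟨j, hj⟩ := IsPGroup.iff_card.1 hP
    rw [hj, ← Nat.card_eq_fintype_card]
    refine Nat.Coprime.pow_right _ (Nat.Coprime.symm (hp.out.coprime_iff_not_dvd.2 fun h => hA ?_))
    exact h.trans (Subgroup.card_dvd_of_le fun α ha => ha.1)
  set c := (powCoprime (G := P) hn.symm).symm (∏ α : A₀, (α : MulAut P) w) with hc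
  have hcn : c ^ Fintype.card A₀ = ∏ α : A₀, (α : MulAut P) w := (powCoprime hn.symm).apply_symm_apply _
  have hcp : c ^ p = w ^ p := by
    refine (powCoprime (G := P) hn.symm).injective ?_
    show (c ^ p) ^ Fintype.card A₀ = (w ^ p) ^ Fintype.card A₀
    rw [← pow_mul, mul_comm p, pow_mul, hcn, ← Finset.prod_pow,
      Finset.prod_congr rfl fun (α : A₀) _ => by rw [← map_pow, α.2.2], Finset.prod_const,
      Finset.card_univ]
  have hcfix : ∀ β ∈ A₀, β c = c := fun β hβ => by
    refine (powCoprime (G := P) hn.symm).injective ?_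
    show (β c) ^ Fintype.card A₀ = c ^ Fintype.card A₀
    rw [← map_pow, hcn, map_prod]
    exact Fintype.prod_equiv (Equiv.mulLeft (⟨β, hβ⟩ : A₀)) _ _ fun α => rfl
  -- the element of exponent p outside
  set c₁ := c ^ p ^ (m - 1) with hc₁
  have hord : orderOf c₁ = p := by
    have e1 : c₁ = w ^ p ^ (m - 1) := by
      obtain ⟨j, hj⟩ : ∃ j, m - 1 = j + 1 := ⟨m - 2, by omega⟩
      rw [hc₁, hj, pow_succ', pow_mul, hcp, ← pow_mul]
    rw [e1, orderOf_pow' _ (pow_ne_zero _ hp.out.ne_zero), hw,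
      Nat.gcd_eq_right (pow_dvd_pow p (Nat.sub_le _ _)), Nat.pow_div (Nat.sub_le _ _) hp.out.pos,
      show m - (m - 1) = 1 by omega, pow_one]
  let Ω : Subgroup P := (powMonoidHom (α := P) p).ker
  have hΩmem : ∀ y, y ∈ Ω ↔ y ^ p = 1 := fun y => by simp [Ω, MonoidHom.mem_ker]
  have hΩcard : Nat.card Ω ≤ p * p := by
    set R := (powMonoidHom (α := P) p).range
    have h1 : Nat.card Ω = R.index := by
      have e1 := Ω.card_mul_index
      have e2 := R.card_mul_index
      rw [Subgroup.index_ker] at e1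
      refine Nat.eq_of_mul_eq_mul_left (Nat.card_pos (α := R)) ?_
      rw [e2, mul_comm]
      exact e1
    rw [h1, Subgroup.index_eq_card]
    have hsurj : Function.Surjective
        fun a : Fin p × Fin p => ((x ^ (a.1 : ℕ) * z ^ (a.2 : ℕ) : P) : P ⧸ R) := fun q => by
      obtain ⟨y, rfl⟩ := QuotientGroup.mk_surjective q
      obtain ⟨i, j, rfl⟩ := hgen y
      refine ⟨(⟨i % p, Nat.mod_lt _ hp.out.pos⟩, ⟨j % p, Nat.mod_lt _ hp.out.pos⟩),
        (QuotientGroup.eq).2 ⟨x ^ (i / p) * z ^ (j / p), ?_⟩⟩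
      show (x ^ (i / p) * z ^ (j / p)) ^ p = (x ^ (i % p) * z ^ (j % p))⁻¹ * (x ^ i * z ^ j)
      rw [eq_inv_mul_iff_mul_eq, mul_pow, ← pow_mul, ← pow_mul, mul_mul_mul_comm, ← pow_add, ← pow_add,
        mul_comm (i / p), mul_comm (j / p), Nat.mod_add_div, Nat.mod_add_div]
    have := Nat.card_le_card_of_surjective _ hsurj
    rwa [Nat.card_prod, Nat.card_eq_fintype_card (α := Fin p), Fintype.card_fin] at this
  set Z := Subgroup.zpowers c₁
  have hZ : Z ≤ Ω := Subgroup.zpowers_le.2 ((hΩmem _).2 (hord ▸ pow_orderOf_eq_one c₁))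
  have hcp1 : ∀ α ∈ A, α (c ^ p) = c ^ p → α ∈ A₀ := fun α ha h => ⟨ha, hcp ▸ h⟩
  have hfin : ∀ α ∈ A₀, (∀ y ∈ Ω, α y = y) → α = 1 := fun α ha h =>
    eq_one_of_fix_omega hP α (n := Nat.card A)
      (by
        have := congrArg (Subgroup.subtype A) (pow_card_eq_one' (x := (⟨α, ha.1⟩ : A)))
        rw [map_pow, map_one] at this
        exact this) hA
      fun y hy => h y ((hΩmem y).2 hy)
  by_cases hcase : Ω ≤ Z
  · refine ⟨c, fun α hα h => ?_⟩
    refine hfin α (hcp1 α hα (by rw [map_pow, h])) fun y hy => ?_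
    obtain ⟨i, rfl⟩ := Subgroup.mem_zpowers_iff.1 (hcase hy)
    rw [map_zpow, hc₁, map_pow, h]
  · obtain ⟨v, hv, hvZ⟩ := SetLike.not_le_iff_exists.1 hcase
    have hvp := (hΩmem v).1 hv
    refine ⟨c * v, fun α hα h => ?_⟩
    have hA₀ : α ∈ A₀ := hcp1 α hα (by
      have := congrArg (· ^ p) h
      simp only [← map_pow, mul_pow, hvp, mul_one] at this
      exact this)
    have hv' : α v = v := by
      rw [map_mul, hcfix α hA₀] at h
      exact mul_left_cancel h
    refine hfin α hA₀ fun y hy => ?_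
    set S := Z ⊔ Subgroup.zpowers v
    have hS : S = Ω := by
      have hle : S ≤ Ω := sup_le hZ (Subgroup.zpowers_le.2 hv)
      refine Subgroup.eq_of_le_of_card_ge hle (hΩcard.trans ?_)
      have hlt : Z < S := lt_of_le_of_ne le_sup_left fun e => hvZ
        (e ▸ Subgroup.mem_sup_right (Subgroup.mem_zpowers v))
      obtain ⟨k, hk⟩ := IsPGroup.iff_card.1 (hP.to_subgroup S)
      have hlt' : Nat.card Z < Nat.card S := by
        refine lt_of_le_of_ne (Subgroup.card_le_of_le hlt.le) fun e => hlt.ne ?_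
        exact Subgroup.eq_of_le_of_card_ge hlt.le e.ge
      rw [Nat.card_zpowers, hord, hk] at hlt'
      rw [hk, ← pow_two]
      refine Nat.pow_le_pow_right hp.out.pos ?_
      by_contra h2
      have := hp.out.one_lt
      interval_cases k
      · rw [pow_zero] at hlt'; omega
      · rw [pow_one] at hlt'; omega
    rw [← hS] at hy
    obtain ⟨a, ha, b, hb, rfl⟩ := Subgroup.mem_sup.1 hy
    obtain ⟨i, rfl⟩ := Subgroup.mem_zpowers_iff.1 ha
    obtain ⟨j, rfl⟩ := Subgroup.mem_zpowers_iff.1 hb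
    rw [map_mul, map_zpow, map_zpow, hc₁, map_pow, hcfix α hA₀, hv']

end Cfsg.Lib.Blocks.RankTwo
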