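import Mathlib
import Cfsg.Agent.Blocks.Frobenius.LocalRanks
import Cfsg.Agent.Blocks.BlockSizeBound
import Cfsg.Agent.Blocks.InertialCyclic
import Cfsg.Agent.Blocks.RankTwo.RegularPoint

/-!
# Blocks with abelian defect groups of small rank

A subsection at any element of an abelian defect group bounds the block by the order of the defect
group times the number of Brauer characters of the subsection.
-/

set_option autoImplicit false
set_option linter.unusedSectionVars false
set_option linter.style.haveILetI false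

namespace Cfsg.Lib.Blocks.RankTwo

open Cfsg Cfsg.Lib.Chars Cfsg.Lib.Blocks Cfsg.Lib.Blocks.Star Cfsg.Lib.Blocks.AbelianStar
open Cfsg.Lib.Blocks.Frobenius Cfsg.Lib.Blocks.CentralReduction
open scoped Classical

universe u

local notation "C⟨" P "⟩" => Subgroup.centralizer (SetLike.coe P)

section Bound

variable {G : Type u} [Group G] [Fintype G] {M : Ideal AlgInt} {p : ℕ} [Fact p.Prime]
  {B : Set (IrrCharacter G)} {P T : Subgroup G} {c : Set (IrrCharacter C⟨P⟩)}

/-- The block is bounded through any subsection. -/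
theorem card_le_mul_section (s : AbPair p M B P T c) {u : G} (hu : u ∈ P) :
    Nat.card B ≤ Nat.card P * blockRank p (fw M P c (Subgroup.zpowers u)) := by
  have ss := s.setting
  set n := orderOf u with hn
  haveI : NeZero n := ⟨(orderOf_pos u).ne'⟩
  let v : (ZMod n)ˣ → G := fun i => u ^ (i : ZMod n).val
  have hv : ∀ i, v i ∈ P := fun i => P.pow_mem hu _
  have hvn : ∀ i, v i ^ n = 1 := fun i => by
    simp only [v]
    rw [← pow_mul, mul_comm, pow_mul, show u ^ n = 1 from pow_orderOf_eq_one u, one_pow]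
  have hzp : ∀ i, Subgroup.zpowers (v i) = Subgroup.zpowers u := fun i =>
    Subgroup.eq_of_le_of_card_ge (Subgroup.zpowers_le.2 (Subgroup.pow_mem _ (Subgroup.mem_zpowers u) _))
      (by
        rw [Nat.card_zpowers, Nat.card_zpowers, Nat.Coprime.orderOf_pow]
        rw [← hn]
        exact (ZMod.val_coe_unit_coprime i).symm)
  choose r hr0 hr using fun (χ : IrrCharacter G) (i : (ZMod n)ˣ) => ss.FF_self (hv i) χ
  set S := Finset.univ.filter (· ∈ B)
  have hmean : ∀ χ ∈ S, (Fintype.card (ZMod n)ˣ : ℝ) ≤ ∑ i, r χ i := fun χ hχ =>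
    (Homocyclic.mean_bound n (fun i => FF p (fun W => fw M P c W) (v i) χ χ) (r χ) (hr χ)
      (fun i => (hr0 χ i).lt_of_ne fun h => ss.FF_ne_zero (hv i) (Finset.mem_filter.1 hχ).2 (by
        rw [hr χ i, ← h, Complex.ofReal_zero]))
      (fun i => (ss.FF_galois (hv i) (hvn i) χ χ).2.1)
      (fun i => (ss.FF_galois (hv i) (hvn i) χ χ).1)
      fun σ j hj hσ => ⟨fun i => ZMod.unitOfCoprime j hj * i, (Equiv.mulLeft _).bijective, fun i => by
        rw [(ss.FF_galois (hv i) (hvn i) χ χ).2.2 σ j hj hσ]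
        congr 1
        simp only [v, Units.val_mul, ZMod.coe_unitOfCoprime, ZMod.val_mul, ZMod.val_natCast]
        rw [← pow_mul, Nat.mod_mul_mod, mul_comm]
        exact (pow_mod_orderOf u _).symm⟩).1
  have hsum : ∀ i, ∑ χ ∈ S, r χ i =
      (Nat.card P : ℝ) * (blockRank p (fw M P c (Subgroup.zpowers u)) : ℝ) := fun i => by
    apply Complex.ofReal_injective
    push_cast
    rw [← Finset.sum_congr rfl fun χ _ => hr χ i, ss.sum_FF (hv i), s.card_pow]
    push_cast
    congr 2
    exact congrArg (fun W => blockRank p (fw M P c W)) (hzp i)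
  have h := Finset.sum_le_sum hmean
  rw [Finset.sum_comm, Finset.sum_congr rfl fun i _ => hsum i, Finset.sum_const, Finset.sum_const,
    nsmul_eq_mul, nsmul_eq_mul, Finset.card_univ, mul_comm (Fintype.card (ZMod n)ˣ : ℝ)] at h
  have h' := le_of_mul_le_mul_right h (Nat.cast_pos.2 Fintype.card_pos)
  have hS : Nat.card B = S.card := by rw [Nat.card_eq_fintype_card]; exact Fintype.card_subtype _
  rw [hS]
  exact_mod_cast h'

end Bound

variable {M : Ideal AlgInt} {p : ℕ}

/-- A defect group carries an abelian pair. -/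
lemma exists_abPair {G : Type u} [Group G] [Fintype G] [Fact p.Prime] (hM : IsPModular p M)
    {B : Set (IrrCharacter G)} (hB : IsPBlock M B) {D : Subgroup G} (hD : IsDefectGroup p M B D)
    (hab : ∀ a ∈ D, ∀ b ∈ D, a * b = b * a) : ∃ T c, AbPair p M B D T c := by
  obtain ⟨c, hc⟩ := exists_pair_of_defect hM hB hD
  exact ⟨_, c, hM, hD, hc.1, hab, (isPairStab_iff hM hc.1.1.2).2 rfl⟩

/-- **An abelian defect group generated by two elements bounds the block by its order.** -/
theorem card_le_of_two_generated [Fact p.Prime] (hM : IsPModular p M) {G : Type u} [Group G]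
    [Fintype G] {B : Set (IrrCharacter G)} (hB : IsPBlock M B) {D : Subgroup G}
    (hD : IsDefectGroup p M B D) (hab : ∀ a ∈ D, ∀ b ∈ D, a * b = b * a) {x z : G} (hx : x ∈ D)
    (hz : z ∈ D) (hgen : ∀ y ∈ D, ∃ i j : ℕ, y = x ^ i * z ^ j) :
    Nat.card B ≤ Nat.card D := by
  have hcard := IsDefectGroup.card hM hB hD
  rcases le_or_gt (blockDefect p B) 2 with h2 | h2
  · rw [hcard]
    exact (BlockSize.card_le_pow hM _ B hB rfl).1 h2
  obtain ⟨T, c, s⟩ := exists_abPair hM hB hD hab
  letI : CommGroup D :=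
    { (inferInstance : Group D) with mul_comm := fun a b => Subtype.ext (hab a a.2 b b.2) }
  have hTN := s.stab.le_normalizer
  obtain ⟨-, hCT⟩ := s.stab.self_le hM s.pair.1.2
  set φ : T →* MulAut D := (Subgroup.normalizerMonoidHom D).comp (Subgroup.inclusion hTN) with hφ
  have hval : ∀ (t : T) (y : D), ((φ t y : D) : G) = (t : G) * y * (t : G)⁻¹ := fun t y => rfl
  have hker : ∀ t : T, φ t = 1 ↔ (t : G) ∈ C⟨D⟩ := fun t => by
    constructor
    · intro h
      refine Subgroup.mem_centralizer_iff.2 fun y hy => ?_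
      have h1 := congrArg (fun w : MulAut D => ((w ⟨y, hy⟩ : D) : G)) h
      simp only [hval, MulAut.one_apply] at h1
      exact (mul_inv_eq_iff_eq_mul.1 h1).symm
    · intro h
      refine MulEquiv.ext fun y => Subtype.ext ?_
      rw [hval, MulAut.one_apply, ← Subgroup.mem_centralizer_iff.1 h y y.2, mul_inv_cancel_right]
  have hA : ¬ p ∣ Nat.card φ.range := by
    rw [← Subgroup.index_ker, show φ.ker = C⟨D⟩.subgroupOf T by
      ext t; rw [MonoidHom.mem_ker, hker, Subgroup.mem_subgroupOf]]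
    letI := Fintype.ofFinite C⟨D⟩
    exact not_dvd_inertial_index hM hD (s.le_centralizer le_rfl)
      ((isBrauerPairOf_iff hM B D c).1 s.pair).2 s.stab
  obtain ⟨u, hu⟩ := exists_regular_point (IsDefectGroup.isPGroup hD) (x := (⟨x, hx⟩ : D))
    (z := ⟨z, hz⟩) (fun y => by
      obtain ⟨i, j, h⟩ := hgen y y.2
      exact ⟨i, j, Subtype.ext (by simpa using h)⟩)
    (by rw [hcard]; exact Nat.pow_le_pow_right (Fact.out : p.Prime).pos h2) φ.range hA
  have hrk : blockRank p (fw M D c (Subgroup.zpowers (u : G))) = 1 :=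
    s.rank (Subgroup.zpowers_le.2 u.2) fun t ht htC => by
      rw [centralizer_zpowers, Subgroup.mem_centralizer_singleton_iff] at htC
      refine (hker ⟨t, ht⟩).1 (hu _ ⟨_, rfl⟩ (Subtype.ext ?_))
      rw [hval, htC, mul_inv_cancel_right]
  have h := card_le_mul_section s u.2
  rwa [hrk, mul_one] at h

/-- Regular parts of a block lie in those of the block of the quotient by a central element of
order `p`. -/
theorem exists_quotient_rank_le [Fact p.Prime] (hM : IsPModular p M) {K : Type u} [Group K]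
    [Fintype K] {f : Set (IrrCharacter K)} (hf : IsPBlock M f) {y : K}
    (hyc : y ∈ Subgroup.center K) (hy : orderOf y = p) [(Subgroup.zpowers y).Normal]
    [Fintype (K ⧸ Subgroup.zpowers y)] :
    ∃ fbar : Set (IrrCharacter (K ⧸ Subgroup.zpowers y)), IsPBlock M fbar ∧
      blockRank p f ≤ blockRank p fbar ∧
      ∀ D : Subgroup K, IsDefectGroup p M f D →
        IsDefectGroup p M fbar (D.map (QuotientGroup.mk' (Subgroup.zpowers y))) := by
  set N := Subgroup.zpowers y with hN
  have hNp : IsPGroup p N := IsPGroup.of_card (n := 1) (by rw [hN, Nat.card_zpowers, hy, pow_one])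
  obtain ⟨fbar, hfb, hsub, hdef⟩ := exists_block_quotient hM N hNp hf
  refine ⟨fbar, hfb, ?_, fun D hD => (hdef _).2 ⟨D, hD, rfl⟩⟩
  have hreg : ∀ z : K, ¬ p ∣ orderOf z → z ∈ Subgroup.centralizer (N : Set K) := fun z _ =>
    Subgroup.mem_centralizer_iff.2 fun a ha =>
      (Subgroup.mem_center_iff.1 ((Subgroup.zpowers_le.2 hyc) ha) z).symm
  obtain ⟨φ₀, hφ₀⟩ := IsPBlock.nonempty hM hfb
  let Λ : (K ⧸ N → ℂ) →ₗ[ℂ] (K → ℂ) :=
    { toFun := fun ξ w => if p ∣ orderOf w then 0 else ξ (w : K ⧸ N)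
      map_add' := fun a b => funext fun w => by by_cases h : p ∣ orderOf w <;> simp [h]
      map_smul' := fun c a => funext fun w => by by_cases h : p ∣ orderOf w <;> simp [h] }
  set V := Submodule.span ℂ ((fun χ : IrrCharacter (K ⧸ N) => pRegularPart p (χ : K ⧸ N → ℂ)) '' fbar)
  refine le_trans (Submodule.finrank_mono (t := V.map Λ) (Submodule.span_le.2 ?_))
    (Submodule.finrank_map_le Λ V)
  have htriv : ∀ θ ∈ trivPart f y, pRegularPart p ((θ : IrrCharacter K) : K → ℂ) ∈ V.map Λ := by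
    rintro θ ⟨hθf, hθy⟩
    have hker : ∀ k ∈ (QuotientGroup.mk' N).ker, (θ : K → ℂ) k = (θ : K → ℂ) 1 := by
      intro k hk
      rw [QuotientGroup.ker_mk'] at hk
      obtain ⟨j, rfl⟩ := (Submonoid.mem_powers_iff k y).1 ((mem_powers_iff_mem_zpowers).2 hk)
      have h1 := IsIrrCharacter.apply_one_ne_zero θ.2
      have h := apply_central_pow θ hyc j
      rw [hθy, div_self h1, one_pow, div_eq_one_iff_eq h1] at h
      exact h
    obtain ⟨b, hb, hbθ⟩ := exists_factor _ (QuotientGroup.mk'_surjective N)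
      (isCharacter_of_irr θ.2) hker
    have hirr : IsIrrCharacter (K ⧸ N) b := IsIrrCharacter.descend hb (QuotientGroup.mk' N)
      (QuotientGroup.mk'_surjective N) (hbθ ▸ θ.2)
    have he : inflate N ⟨b, hirr⟩ = θ := Subtype.ext hbθ.symm
    have hmem : (⟨b, hirr⟩ : IrrCharacter (K ⧸ N)) ∈ fbar := by
      rw [IsPBlock.eq_blockOf hM hfb hφ₀]
      refine sameBlock_of_inflate hM hNp hreg ?_
      rw [he]
      exact IsPBlock.sameBlock hM hf (hsub _ hφ₀) hθf
    refine ⟨pRegularPart p b, Submodule.subset_span ⟨_, hmem, rfl⟩, funext fun w => ?_⟩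
    show (if p ∣ orderOf w then (0 : ℂ) else pRegularPart p b (w : K ⧸ N)) = _
    rw [pRegularPart_apply, pRegularPart_apply]
    split_ifs with h1 h2
    · rfl
    · exact absurd (h2.trans (orderOf_map_dvd (QuotientGroup.mk' N) w)) h1
    · rw [← he, inflate_val]
  rintro _ ⟨θ, hθ, rfl⟩
  set R := Finset.univ.filter (fun v : K => ¬ p ∣ orderOf v)
  letI : Fintype (trivPart f y) := Fintype.ofFinite _
  have hK : (Nat.card K : ℂ) ≠ 0 := Nat.cast_ne_zero.2 Nat.card_pos.ne'
  have hexp : pRegularPart p (θ : K → ℂ) = ∑ φ : trivPart f y,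
      ((Nat.card K : ℂ)⁻¹ * (p : ℂ) *
        ∑ v ∈ R, (starRingEnd ℂ) (((φ : IrrCharacter K) : K → ℂ) v) * (θ : K → ℂ) v) •
          pRegularPart p ((φ : IrrCharacter K) : K → ℂ) := by
    funext w
    simp only [Finset.sum_apply, Pi.smul_apply, smul_eq_mul, pRegularPart_apply]
    by_cases hw : p ∣ orderOf w
    · simp [hw]
    simp only [hw, if_false]
    refine mul_left_cancel₀ hK ((mul_sum_colKer_mul hM hf hyc hy hθ hw).symm.trans ?_)
    simp only [colKer_eq, Finset.sum_mul, Finset.mul_sum]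
    rw [Finset.sum_comm, Finset.sum_subtype (p := (· ∈ trivPart f y)) _ (fun φ => by simp)]
    refine Finset.sum_congr rfl fun φ _ => Finset.sum_congr rfl fun v _ => ?_
    field_simp
  show pRegularPart p (θ : K → ℂ) ∈ _
  rw [hexp]
  exact sum_mem fun φ _ => Submodule.smul_mem _ _ (htriv φ.1 φ.2)

/-- **The rank of a block with a central element in a three-generated abelian defect group.** -/
theorem rank_mul_pow_le [Fact p.Prime] (hM : IsPModular p M) (a : ℕ) :
    ∀ {K : Type u} [Group K] [Fintype K] (f : Set (IrrCharacter K)), IsPBlock M f →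
      ∀ D : Subgroup K, IsDefectGroup p M f D → (∀ a ∈ D, ∀ b ∈ D, a * b = b * a) →
      ∀ y x z : K, y ∈ Subgroup.center K → orderOf y = p ^ a → x ∈ D → z ∈ D →
      (∀ d ∈ D, ∃ l i j : ℕ, d = y ^ l * (x ^ i * z ^ j)) →
      blockRank p f * p ^ a ≤ Nat.card D := by
  induction a with
  | zero =>
    intro K _ _ f hf D hD hab y x z _ hy hx hz hgen
    rw [pow_zero, orderOf_eq_one_iff] at hy
    rw [pow_zero, mul_one]
    refine (blockRank_le_card f).trans (card_le_of_two_generated hM hf hD hab hx hz fun d hd => ?_)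
    obtain ⟨l, i, j, h⟩ := hgen d hd
    exact ⟨i, j, by rw [h, hy, one_pow, one_mul]⟩
  | succ a ih =>
    intro K _ _ f hf D hD hab y x z hyc hy hx hz hgen
    have hp : p.Prime := Fact.out
    set y₀ := y ^ p ^ a with hy₀
    have hy₀o : orderOf y₀ = p := by
      rw [hy₀, orderOf_pow' _ (pow_ne_zero _ hp.ne_zero), hy,
        Nat.gcd_eq_right (pow_dvd_pow p (Nat.le_succ a)), Nat.pow_div (Nat.le_succ a) hp.pos,
        Nat.succ_sub (le_refl a), Nat.sub_self, pow_one]
    have hy₀c : y₀ ∈ Subgroup.center K := Subgroup.pow_mem _ hyc _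
    haveI hN : (Subgroup.zpowers y₀).Normal := ⟨fun b hb g => by
      rwa [Subgroup.mem_center_iff.1 (Subgroup.zpowers_le.2 hy₀c hb) g, mul_inv_cancel_right]⟩
    letI := Fintype.ofFinite (K ⧸ Subgroup.zpowers y₀)
    obtain ⟨fbar, hfb, hle, hdef⟩ := exists_quotient_rank_le hM hf hy₀c hy₀o
    set q := QuotientGroup.mk' (Subgroup.zpowers y₀) with hq
    have hNp : IsPGroup p (Subgroup.zpowers y₀) :=
      IsPGroup.of_card (n := 1) (by rw [Nat.card_zpowers, hy₀o, pow_one])
    have hND : Subgroup.zpowers y₀ ≤ D := normal_le_defectGroup hM hNp hf hD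
    have hcard : Nat.card (D.map q) * p = Nat.card D := by
      have h4 := ((Subgroup.zpowers y₀).subgroupOf D).card_mul_index
      rw [Nat.card_congr (Subgroup.subgroupOfEquivOfLe hND).toEquiv, Nat.card_zpowers, hy₀o] at h4
      rw [← h4, mul_comm]
      congr 1
      rw [show D.map q = (q.comp D.subtype).range by rw [MonoidHom.range_comp, Subgroup.range_subtype],
        ← Subgroup.index_ker, ← MonoidHom.comap_ker, hq, QuotientGroup.ker_mk']
      rfl
    have hy' : orderOf (q y) = p ^ a := by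
      cases a with
      | zero =>
        rw [pow_zero, orderOf_eq_one_iff]
        exact (QuotientGroup.eq_one_iff y).2 ⟨1, by simp [hy₀]⟩
      | succ b =>
        refine orderOf_eq_prime_pow (fun h => ?_) ?_
        · rw [← map_pow, hq, QuotientGroup.mk'_apply, QuotientGroup.eq_one_iff] at h
          obtain ⟨i, hi⟩ := h
          have h1 : (y ^ p ^ b) ^ p = 1 := by
            rw [← hi]
            show (y₀ ^ i) ^ p = 1
            rw [← zpow_natCast, ← zpow_mul, mul_comm, zpow_mul, zpow_natCast, ← hy₀o,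
              pow_orderOf_eq_one, one_zpow]
          rw [← pow_mul, ← pow_succ] at h1
          have := Nat.le_of_dvd (pow_pos hp.pos _) (hy ▸ orderOf_dvd_of_pow_eq_one h1)
          exact absurd this (not_le.2 (Nat.pow_lt_pow_right hp.one_lt (by omega)))
        · rw [← map_pow, hq, QuotientGroup.mk'_apply, QuotientGroup.eq_one_iff]
          exact Subgroup.mem_zpowers y₀
    have hres := ih fbar hfb (D.map q) (hdef D hD) (by
        rintro _ ⟨b, hb, rfl⟩ _ ⟨b', hb', rfl⟩
        rw [← map_mul, ← map_mul, hab b hb b' hb'])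
      (q y) (q x) (q z) (Subgroup.mem_center_iff.2 fun g => by
        obtain ⟨g, rfl⟩ := QuotientGroup.mk'_surjective _ g
        rw [← map_mul, ← map_mul, Subgroup.mem_center_iff.1 hyc g])
      hy' ⟨x, hx, rfl⟩ ⟨z, hz, rfl⟩ (by
        rintro _ ⟨b, hb, rfl⟩
        obtain ⟨l, i, j, rfl⟩ := hgen b hb
        exact ⟨l, i, j, by simp only [map_mul, map_pow]⟩)
    calc blockRank p f * p ^ (a + 1) ≤ blockRank p fbar * p ^ (a + 1) := Nat.mul_le_mul_right _ hle
      _ = blockRank p fbar * p ^ a * p := by ring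
      _ ≤ Nat.card (D.map q) * p := Nat.mul_le_mul_right _ hres
      _ = Nat.card D := hcard

/-- **The bound for three generators.** -/
theorem card_cube_le [Fact p.Prime] (hM : IsPModular p M) {G : Type u} [Group G] [Fintype G]
    {B : Set (IrrCharacter G)} (hB : IsPBlock M B) {D : Subgroup G} (hD : IsDefectGroup p M B D)
    (hab : ∀ a ∈ D, ∀ b ∈ D, a * b = b * a) {y x z : G} (hy : y ∈ D) (hx : x ∈ D) (hz : z ∈ D)
    (hgen : ∀ d ∈ D, ∃ l i j : ℕ, d = y ^ l * (x ^ i * z ^ j))
    (hmax : Nat.card D ≤ orderOf y ^ 3) : Nat.card B ^ 3 ≤ Nat.card D ^ 5 := by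
  obtain ⟨T, c, s⟩ := exists_abPair hM hB hD hab
  set U := Subgroup.zpowers y with hU
  have hUD : U ≤ D := Subgroup.zpowers_le.2 hy
  have hDC := s.le_centralizer hUD
  have sd := s.down hUD
  letI := Fintype.ofFinite C⟨U⟩
  have hyU : y ∈ C⟨U⟩ := hDC hy
  obtain ⟨a, ha⟩ := IsPGroup.iff_orderOf.1 (IsDefectGroup.isPGroup hD) ⟨y, hy⟩
  rw [Subgroup.orderOf_mk] at ha
  have hl := rank_mul_pow_le hM a (fw M D c U) (s.fw_spec hUD).1 (D.subgroupOf C⟨U⟩) sd.defect
    (fun a ha b hb => Subtype.ext (hab _ ha _ hb)) ⟨y, hyU⟩ ⟨x, hDC hx⟩ ⟨z, hDC hz⟩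
    (Subgroup.mem_center_iff.2 fun g => Subtype.ext
      (Subgroup.mem_centralizer_iff.1 g.2 y (Subgroup.mem_zpowers y)).symm)
    (by rw [Subgroup.orderOf_mk, ha]) hx hz
    (fun d hd => by
      obtain ⟨l, i, j, h⟩ := hgen _ hd
      exact ⟨l, i, j, Subtype.ext (by simpa using h)⟩)
  rw [Nat.card_congr (Subgroup.subgroupOfEquivOfLe hDC).toEquiv, ← ha] at hl
  have hk := card_le_mul_section s hy
  set n := Nat.card D
  set l := blockRank p (fw M D c U)
  have h1 : Nat.card B ^ 3 * n ≤ n ^ 6 := by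
    calc Nat.card B ^ 3 * n ≤ (n * l) ^ 3 * orderOf y ^ 3 :=
          Nat.mul_le_mul (Nat.pow_le_pow_left hk 3) hmax
      _ = n ^ 3 * (l * orderOf y) ^ 3 := by ring
      _ ≤ n ^ 3 * n ^ 3 := Nat.mul_le_mul_left _ (Nat.pow_le_pow_left hl 3)
      _ = n ^ 6 := by ring
  rw [pow_succ n 5] at h1
  exact Nat.le_of_mul_le_mul_right h1 Nat.card_pos

end Cfsg.Lib.Blocks.RankTwo
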